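import Groth.Prelude.Def_DescFam
import Mathlib.AlgebraicGeometry.Sites.Fpqc
import Mathlib.AlgebraicGeometry.Morphisms.FlatDescent

/-!
# Pullback of descent data along a refinement of families is fully faithful
-/

set_option autoImplicit false
set_option backward.isDefEq.respectTransparency false
set_option backward.isDefEq.respectTransparency.types false

universe u

open CategoryTheory CategoryTheory.Limits AlgebraicGeometry Desc

noncomputable section

namespace Groth.DescPull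

variable {ι κ : Type u} {S : Scheme.{u}} {U : ι → Scheme.{u}} {V : κ → Scheme.{u}}
  {u' : ∀ i, U i ⟶ S} {v : ∀ j, V j ⟶ S} {α : ι → κ} {g : ∀ i, U i ⟶ V (α i)}
  (w : ∀ i, g i ≫ v (α i) = u' i ≫ 𝟙 S) {D D' : SchDDFam v}

/-- The action of a morphism of pulled back data on points. -/
def bAct (b : (pullDDFam w).obj D ⟶ (pullDDFam w).obj D') {T : Scheme.{u}} {i : ι} {y : T ⟶ U i}
    (p : Lifts (D.obj (α i)) (y ≫ g i)) : Lifts (D'.obj (α i)) (y ≫ g i) :=
  liftsPullbackEquiv (D'.obj (α i)) (g i) y (b.push ((liftsPullbackEquiv (D.obj (α i)) (g i) y).symm p))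

theorem bAct_val (b : (pullDDFam w).obj D ⟶ (pullDDFam w).obj D') {T : Scheme.{u}} {i : ι} {y : T ⟶ U i}
    (p : Lifts (D.obj (α i)) (y ≫ g i)) :
    (bAct w b p).1 = (pullback.lift p.1 y p.2 ≫ (b.hom i).left) ≫ pullback.fst _ _ := rfl

theorem bAct_natural (b : (pullDDFam w).obj D ⟶ (pullDDFam w).obj D') {T T' : Scheme.{u}} (f : T' ⟶ T)
    {i : ι} {y : T ⟶ U i} {y' : T' ⟶ U i} (hy : y' = f ≫ y) (p : Lifts (D.obj (α i)) (y ≫ g i))
    (p' : Lifts (D.obj (α i)) (y' ≫ g i)) (hp : p'.1 = f ≫ p.1) :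
    (bAct w b p').1 = f ≫ (bAct w b p).1 := by
  subst hy
  rw [bAct_val, bAct_val]
  simp only [← Category.assoc]
  congr 2
  apply pullback.hom_ext
  · simp [hp]
  · simp

theorem bAct_comm (b : (pullDDFam w).obj D ⟶ (pullDDFam w).obj D') {T : Scheme.{u}} {i i' : ι}
    (y : T ⟶ U i) (y' : T ⟶ U i') (h : y ≫ u' i = y' ≫ u' i') (p : Lifts (D.obj (α i)) (y ≫ g i)) :
    D'.φ (y ≫ g i) (y' ≫ g i') (pull_compat w y y' h) (bAct w b p) =
      bAct w b (D.φ (y ≫ g i) (y' ≫ g i') (pull_compat w y y' h) p) := by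
  let q := (liftsPullbackEquiv (D.obj (α i)) (g i) y).symm p
  have hb := b.comm y y' h q (b.push q) rfl
  have hb' : ((pullDDFam w).obj D').φ y y' h (b.push q) = b.push (((pullDDFam w).obj D).φ y y' h q) :=
    Subtype.ext hb
  have e := congrArg (liftsPullbackEquiv (D'.obj (α i')) (g i') y') hb'
  have l1 : ∀ z, liftsPullbackEquiv (D'.obj (α i')) (g i') y' (((pullDDFam w).obj D').φ y y' h z) =
      D'.φ (y ≫ g i) (y' ≫ g i') (pull_compat w y y' h) (liftsPullbackEquiv (D'.obj (α i)) (g i) y z) :=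
    fun z => Equiv.apply_symm_apply _ _
  have l2 : ((pullDDFam w).obj D).φ y y' h q =
      (liftsPullbackEquiv (D.obj (α i')) (g i') y').symm
        (D.φ (y ≫ g i) (y' ≫ g i') (pull_compat w y y' h) p) := by
    show (liftsPullbackEquiv (D.obj (α i')) (g i') y').symm _ = _
    simp [q]
  rw [l1] at e
  exact e.trans (congrArg (fun z => liftsPullbackEquiv (D'.obj (α i')) (g i') y' (b.push z)) l2)

theorem bAct_map (a : D ⟶ D') {T : Scheme.{u}} {i : ι} {y : T ⟶ U i} (p : Lifts (D.obj (α i)) (y ≫ g i)) :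
    bAct w ((pullDDFam w).map a) p = a.push p := by
  apply Subtype.ext
  rw [bAct_val, Category.assoc]
  show pullback.lift p.1 y p.2 ≫ pullback.map _ _ _ _ (a.hom (α i)).left (𝟙 _) (𝟙 _) (by simp [Over.w]) (by simp) ≫ pullback.fst _ _ =
    p.1 ≫ (a.hom (α i)).left
  simp

include w in
theorem cond {T : Scheme.{u}} {i : ι} (y : T ⟶ U i) : (y ≫ g i) ≫ v (α i) = y ≫ u' i := by
  rw [Category.assoc, w, Category.comp_id]

/-- The value of the extension at a point `p` of `D` with a chosen point `y` of the refinement. -/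
def val (b : (pullDDFam w).obj D ⟶ (pullDDFam w).obj D') {T : Scheme.{u}} {j : κ} {x : T ⟶ V j}
    (p : Lifts (D.obj j) x) {i : ι} (y : T ⟶ U i) (h : x ≫ v j = y ≫ u' i) : Lifts (D'.obj j) x :=
  D'.φ (y ≫ g i) x ((cond w y).trans h.symm)
    (bAct w b (D.φ x (y ≫ g i) (h.trans (cond w y).symm) p))

theorem val_indep (b : (pullDDFam w).obj D ⟶ (pullDDFam w).obj D') {T : Scheme.{u}} {j : κ} {x : T ⟶ V j}
    (p : Lifts (D.obj j) x) {i i' : ι} (y : T ⟶ U i) (y' : T ⟶ U i') (h : x ≫ v j = y ≫ u' i)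
    (h' : x ≫ v j = y' ≫ u' i') : val w b p y h = val w b p y' h' := by
  unfold val
  rw [← D.φ_comp x (y ≫ g i) (y' ≫ g i') (h.trans (cond w y).symm) (pull_compat w y y' (h.symm.trans h')) p,
    ← bAct_comm w b y y' (h.symm.trans h'), D'.φ_comp]

theorem val_natural (b : (pullDDFam w).obj D ⟶ (pullDDFam w).obj D') {T T' : Scheme.{u}} (f : T' ⟶ T)
    {j : κ} {x : T ⟶ V j} {x' : T' ⟶ V j} (hx : f ≫ x = x') (p : Lifts (D.obj j) x)
    (p' : Lifts (D.obj j) x') (hp : p'.1 = f ≫ p.1) {i : ι} (y : T ⟶ U i) (y' : T' ⟶ U i)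
    (hy : f ≫ y = y') (h : x ≫ v j = y ≫ u' i) (h' : x' ≫ v j = y' ≫ u' i) :
    (val w b p' y' h').1 = f ≫ (val w b p y h).1 := by
  have e : f ≫ y ≫ g i = y' ≫ g i := by rw [← hy, Category.assoc]
  exact D'.φ_natural f _ _ _ _ _ e hx _ _ _ (bAct_natural w b f hy.symm _ _
    (D.φ_natural f x (y ≫ g i) _ x' (y' ≫ g i) hx e _ p p' hp))

theorem comm_val (b : (pullDDFam w).obj D ⟶ (pullDDFam w).obj D') {T : Scheme.{u}} {j j' : κ}
    {x : T ⟶ V j} {x' : T ⟶ V j'} (hxx : x ≫ v j = x' ≫ v j') (p : Lifts (D.obj j) x) {i : ι}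
    (y : T ⟶ U i) (h : x ≫ v j = y ≫ u' i) :
    D'.φ x x' hxx (val w b p y h) = val w b (D.φ x x' hxx p) y (hxx.symm.trans h) := by
  unfold val
  rw [D'.φ_comp, D.φ_comp]

theorem val_map (a : D ⟶ D') {T : Scheme.{u}} {j : κ} {x : T ⟶ V j} (p : Lifts (D.obj j) x)
    {i : ι} (y : T ⟶ U i) (h : x ≫ v j = y ≫ u' i) :
    val w ((pullDDFam w).map a) p y h = a.push p := by
  unfold val
  rw [bAct_map]
  have e : D'.φ x (y ≫ g i) (h.trans (cond w y).symm) (a.push p) =
      a.push (D.φ x (y ≫ g i) (h.trans (cond w y).symm) p) :=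
    Subtype.ext (a.comm x (y ≫ g i) _ p (a.push p) rfl)
  rw [← e, D'.φ_comp, D'.φ_self]

/-- The sieve of points of `Z` which lift to the refined family. -/
def lifting (u' : ∀ i, U i ⟶ S) {Z : Scheme.{u}} (h : Z ⟶ S) : Sieve Z where
  arrows T := {k | ∃ (i : ι) (y : T ⟶ U i), k ≫ h = y ≫ u' i}
  downward_closed := by
    rintro T T' k ⟨i, y, hy⟩ f
    exact ⟨i, f ≫ y, by rw [Category.assoc, hy, Category.assoc]⟩

theorem lifting_pullback {Z Z' : Scheme.{u}} (h : Z ⟶ S) (f : Z' ⟶ Z) :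
    (lifting u' h).pullback f = lifting u' (f ≫ h) := by
  ext T k
  show (∃ (i : ι) (y : T ⟶ U i), (k ≫ f) ≫ h = y ≫ u' i) ↔ _
  simp only [Category.assoc]
  rfl

theorem ext_of_lifting {Z Y : Scheme.{u}} {h : Z ⟶ S} (H : lifting u' h ∈ Scheme.fpqcTopology Z)
    {a b : Z ⟶ Y} (hab : ∀ {T : Scheme.{u}} (k : T ⟶ Z), lifting u' h k → k ≫ a = k ≫ b) : a = b :=
  ((GrothendieckTopology.Subcanonical.isSheaf_of_isRepresentable
    (J := Scheme.fpqcTopology) (yoneda.obj Y)).isSeparated _ H).ext (fun {T} k hk => hab k hk)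

/-- The family of values on the lifting sieve. -/
def family (b : (pullDDFam w).obj D ⟶ (pullDDFam w).obj D') (j : κ) :
    Presieve.FamilyOfElements (yoneda.obj (D'.obj j).left) (lifting u' ((D.obj j).hom ≫ v j)).arrows :=
  fun _ k hk => (val w b ⟨k, rfl⟩ hk.choose_spec.choose
    ((Category.assoc _ _ _).trans hk.choose_spec.choose_spec)).1

theorem family_eq (b : (pullDDFam w).obj D ⟶ (pullDDFam w).obj D') (j : κ) {T : Scheme.{u}}
    (k : T ⟶ (D.obj j).left) (hk : lifting u' ((D.obj j).hom ≫ v j) k) {x : T ⟶ V j}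
    (hx : k ≫ (D.obj j).hom = x) {i : ι} (y : T ⟶ U i) (h : x ≫ v j = y ≫ u' i) :
    family w b j k hk = (val w b (⟨k, hx⟩ : Lifts (D.obj j) x) y h).1 := by
  subst hx
  exact congrArg Subtype.val (val_indep w b _ _ y _ h)

theorem family_compatible (b : (pullDDFam w).obj D ⟶ (pullDDFam w).obj D') (j : κ) :
    (family w b j).Compatible := by
  intro T₁ T₂ Z g₁ g₂ k₁ k₂ h₁ h₂ hg
  obtain ⟨i₁, y₁, e₁⟩ := id h₁
  obtain ⟨i₂, y₂, e₂⟩ := id h₂
  show g₁ ≫ family w b j k₁ h₁ = g₂ ≫ family w b j k₂ h₂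
  rw [family_eq w b j k₁ h₁ rfl y₁ ((Category.assoc _ _ _).trans e₁),
    family_eq w b j k₂ h₂ rfl y₂ ((Category.assoc _ _ _).trans e₂)]
  have hx : g₂ ≫ k₂ ≫ (D.obj j).hom = g₁ ≫ k₁ ≫ (D.obj j).hom := by rw [← reassoc_of% hg]
  let p : Lifts (D.obj j) (g₁ ≫ k₁ ≫ (D.obj j).hom) := ⟨g₁ ≫ k₁, Category.assoc _ _ _⟩
  have c₁ : (g₁ ≫ k₁ ≫ (D.obj j).hom) ≫ v j = (g₁ ≫ y₁) ≫ u' i₁ := by simp [e₁]
  have c₂ : (g₁ ≫ k₁ ≫ (D.obj j).hom) ≫ v j = (g₂ ≫ y₂) ≫ u' i₂ := by rw [← hx]; simp [e₂]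
  rw [← val_natural w b g₁ rfl _ p rfl y₁ _ rfl _ c₁, ← val_natural w b g₂ hx _ p hg y₂ _ rfl _ c₂]
  exact congrArg Subtype.val (val_indep w b _ _ _ _ _)

variable (H : ∀ j, lifting u' (v j) ∈ Scheme.fpqcTopology (V j))
include H

omit w in
theorem lifting_mem (j : κ) {T : Scheme.{u}} (x : T ⟶ V j) : lifting u' (x ≫ v j) ∈ Scheme.fpqcTopology T := by
  rw [← lifting_pullback]
  exact Scheme.fpqcTopology.pullback_stable x (H j)

/-- Faithfulness. -/
theorem map_injective {a a' : D ⟶ D'} (h : (pullDDFam w).map a = (pullDDFam w).map a') : a = a' := by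
  refine SchDDFam.hom_ext (funext fun j => Over.OverMorphism.ext ?_)
  refine ext_of_lifting (lifting_mem H j (D.obj j).hom) fun {T} k hk => ?_
  obtain ⟨i, y, e⟩ := hk
  have e' : (k ≫ (D.obj j).hom) ≫ v j = y ≫ u' i := (Category.assoc _ _ _).trans e
  have h1 := val_map w a (⟨k, rfl⟩ : Lifts (D.obj j) _) y e'
  rw [h, val_map] at h1
  exact (congrArg Subtype.val h1).symm

/-- Fullness. -/
theorem exists_map_eq (b : (pullDDFam w).obj D ⟶ (pullDDFam w).obj D') :
    ∃ a : D ⟶ D', (pullDDFam w).map a = b := by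
  have hs := fun j => (GrothendieckTopology.Subcanonical.isSheaf_of_isRepresentable
    (J := Scheme.fpqcTopology) (yoneda.obj (D'.obj j).left)) _ (lifting_mem H j (D.obj j).hom)
  choose a ha using fun j => (hs j (family w b j) (family_compatible w b j)).exists
  have ha' : ∀ {j} {T : Scheme.{u}} {x : T ⟶ V j} (p : Lifts (D.obj j) x) {i : ι} (y : T ⟶ U i)
      (h : x ≫ v j = y ≫ u' i), p.1 ≫ a j = (val w b p y h).1 := by
    intro j T x p i y h
    have hk : lifting u' ((D.obj j).hom ≫ v j) p.1 := ⟨i, y, by rw [← Category.assoc, p.2, h]⟩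
    exact (ha j p.1 hk).trans (family_eq w b j p.1 hk p.2 y h)
  have haw : ∀ j, a j ≫ (D'.obj j).hom = (D.obj j).hom := fun j =>
    ext_of_lifting (lifting_mem H j (D.obj j).hom) fun {T} k hk => by
      obtain ⟨i, y, e⟩ := hk
      rw [← Category.assoc, ha' (⟨k, rfl⟩ : Lifts (D.obj j) _) y ((Category.assoc _ _ _).trans e)]
      exact (val w b (⟨k, rfl⟩ : Lifts (D.obj j) _) y _).2
  refine ⟨⟨fun j => Over.homMk (a j) (haw j), ?_⟩, ?_⟩
  · intro T j j' x x' hxx p q hq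
    refine ext_of_lifting (lifting_mem H j x) fun {T'} k hk => ?_
    obtain ⟨i, y, e⟩ := hk
    let pk : Lifts (D.obj j) (k ≫ x) := ⟨k ≫ p.1, by rw [Category.assoc, p.2]⟩
    have hkk : (k ≫ x) ≫ v j = (k ≫ x') ≫ v j' := by rw [Category.assoc, hxx, Category.assoc]
    have e' : (k ≫ x) ≫ v j = y ≫ u' i := (Category.assoc _ _ _).trans e
    show k ≫ (D'.φ x x' hxx q).1 = k ≫ (D.φ x x' hxx p).1 ≫ a j'
    have hn : (D.φ (k ≫ x) (k ≫ x') hkk pk).1 = k ≫ (D.φ x x' hxx p).1 :=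
      D.φ_natural k x x' hxx _ _ rfl rfl hkk p pk rfl
    rw [← Category.assoc, ← hn, ha' _ y (hkk.symm.trans e'), ← comm_val]
    refine (D'.φ_natural k x x' hxx _ _ rfl rfl hkk q (val w b pk y e') ?_).symm
    rw [← ha' pk y e', hq]
    exact Category.assoc _ _ _
  · refine SchDDFam.hom_ext (funext fun i => Over.OverMorphism.ext ?_)
    show pullback.map _ _ _ _ (a (α i)) (𝟙 _) (𝟙 _) (by simp [haw]) (by simp) = (b.hom i).left
    apply pullback.hom_ext
    · rw [pullback.lift_fst]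
      refine (ha' (⟨pullback.fst (D.obj (α i)).hom (g i), pullback.condition⟩ : Lifts _ _)
        (pullback.snd (D.obj (α i)).hom (g i)) (cond w _)).trans ?_
      unfold val
      rw [D.φ_self, D'.φ_self, bAct_val]
      congr 1
      convert Category.id_comp _
      apply pullback.hom_ext <;> simp
    · rw [pullback.lift_snd, Category.comp_id]
      exact (Over.w (b.hom i)).symm

/-- Full and faithful. -/
theorem full_faithful : (pullDDFam w).Full ∧ (pullDDFam w).Faithful :=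
  ⟨⟨fun {_ _} b => exists_map_eq w H b⟩, ⟨fun {_ _ _ _} h => map_injective w H h⟩⟩

end Groth.DescPull

end

noncomputable section

namespace Groth.DescPull

variable {ι κ : Type u} {S : Scheme.{u}} {U : ι → Scheme.{u}} {V : κ → Scheme.{u}}

/-- The lifting sieves are covering when the refined family covers the base. -/
theorem lifting_mem_of_cover (u' : ∀ i, U i ⟶ S) (hu : Presieve.ofArrows U u' ∈ Scheme.fpqcPrecoverage S)
    {Z : Scheme.{u}} (h : Z ⟶ S) : lifting u' h ∈ Scheme.fpqcTopology Z := by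
  have h0 : lifting u' (𝟙 S) ∈ Scheme.fpqcTopology S := by
    refine Scheme.fpqcTopology.superset_covering ?_ (Precoverage.generate_mem_toGrothendieck hu)
    rw [Sieve.generate_le_iff]
    rintro T f ⟨i⟩
    exact ⟨i, 𝟙 _, by simp⟩
  have := Scheme.fpqcTopology.pullback_stable h h0
  rwa [lifting_pullback, Category.comp_id] at this

/-- The lifting sieves are covering for a refinement by coverings. -/
theorem lifting_mem_of_refinement (u' : ∀ i, U i ⟶ S) (v : ∀ j, V j ⟶ S) (α : ι → κ)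
    (g : ∀ i, U i ⟶ V (α i)) (w : ∀ i, g i ≫ v (α i) = u' i)
    (hcov : ∀ j, Presieve.ofArrows (fun i : {i // α i = j} => U i.1)
      (fun i => g i.1 ≫ eqToHom (congrArg V i.2)) ∈ Scheme.fpqcPrecoverage (V j)) (j : κ) :
    lifting u' (v j) ∈ Scheme.fpqcTopology (V j) := by
  refine Scheme.fpqcTopology.superset_covering ?_ (Precoverage.generate_mem_toGrothendieck (hcov j))
  rw [Sieve.generate_le_iff]
  rintro T f ⟨⟨i, hi⟩⟩
  subst hi
  exact ⟨i, 𝟙 _, by simp [w]⟩

end Groth.DescPull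

end
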