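import Groth.Agent.DescPull.Basic

/-!
# Isomorphisms of descent data from bijections on points
-/

set_option autoImplicit false
set_option backward.isDefEq.respectTransparency false
set_option backward.isDefEq.respectTransparency.types false

universe u

open CategoryTheory CategoryTheory.Limits AlgebraicGeometry Desc

noncomputable section

namespace Groth.DescPull

variable {ι : Type u} {S : Scheme.{u}} {U : ι → Scheme.{u}} {u' : ∀ i, U i ⟶ S}

/-- The point of `D.obj i` over its structure map given by the identity. -/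
def tautPt (D : SchDDFam u') (i : ι) : Lifts (D.obj i) (D.obj i).hom :=
  ⟨𝟙 _, Category.id_comp _⟩

section pts

variable {D D' : SchDDFam u'}
  (e : ∀ ⦃T : Scheme.{u}⦄ ⦃i : ι⦄ (x : T ⟶ U i), Lifts (D.obj i) x ≃ Lifts (D'.obj i) x)
  (nat : ∀ ⦃T T' : Scheme.{u}⦄ (k : T' ⟶ T) ⦃i : ι⦄ (x : T ⟶ U i) (y : T' ⟶ U i) (_ : k ≫ x = y)
    (v : Lifts (D.obj i) x) (v' : Lifts (D.obj i) y), v'.1 = k ≫ v.1 → (e y v').1 = k ≫ (e x v).1)

/-- The morphism defined by a natural map on points. -/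
def ptsHom (i : ι) : D.obj i ⟶ D'.obj i :=
  Over.homMk (e (D.obj i).hom (tautPt D i)).1 (e (D.obj i).hom (tautPt D i)).2

include nat in
theorem ptsHom_apply {T : Scheme.{u}} {i : ι} {x : T ⟶ U i} (v : Lifts (D.obj i) x) :
    v.1 ≫ (ptsHom e i).left = (e x v).1 :=
  (nat v.1 (D.obj i).hom x v.2 (tautPt D i) v (Category.comp_id _).symm).symm

/-- An isomorphism of descent data from natural bijections on points compatible with the transition maps. -/
def isoOfPoints
    (comm : ∀ ⦃T : Scheme.{u}⦄ ⦃i j : ι⦄ (x : T ⟶ U i) (y : T ⟶ U j) (h : x ≫ u' i = y ≫ u' j)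
      (v : Lifts (D.obj i) x), D'.φ x y h (e x v) = e y (D.φ x y h v)) : D ≅ D' :=
  have nat' : ∀ ⦃T T' : Scheme.{u}⦄ (k : T' ⟶ T) ⦃i : ι⦄ (x : T ⟶ U i) (y : T' ⟶ U i) (_ : k ≫ x = y)
      (w : Lifts (D'.obj i) x) (w' : Lifts (D'.obj i) y), w'.1 = k ≫ w.1 →
      ((e y).symm w').1 = k ≫ ((e x).symm w).1 := by
    intro T T' k i x y hy w w' hw
    have h1 : (k ≫ ((e x).symm w).1) ≫ (D.obj i).hom = y := by
      rw [Category.assoc, ((e x).symm w).2, hy]
    have h2 : e y ⟨_, h1⟩ = w' := Subtype.ext (by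
      rw [nat k x y hy ((e x).symm w) ⟨_, h1⟩ rfl, Equiv.apply_symm_apply, hw])
    rw [← h2, Equiv.symm_apply_apply]
  { hom := ⟨ptsHom e, fun T i j x y h v w hw => by
      obtain rfl : w = e x v := Subtype.ext (hw.trans (ptsHom_apply e nat v))
      rw [comm, ptsHom_apply e nat]⟩
    inv := ⟨ptsHom fun T i x => (e x).symm, fun T i j x y h v w hw => by
      obtain rfl : w = (e x).symm v := Subtype.ext (hw.trans (ptsHom_apply _ nat' v))
      rw [ptsHom_apply _ nat']
      refine congrArg Subtype.val ((e y).injective ?_)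
      rw [← comm, Equiv.apply_symm_apply, Equiv.apply_symm_apply]⟩
    hom_inv_id := SchDDFam.hom_ext (funext fun i => Over.OverMorphism.ext (by
      show (e (D.obj i).hom (tautPt D i)).1 ≫ (ptsHom (fun T i x => (e x).symm) i).left = 𝟙 _
      rw [ptsHom_apply _ nat', Equiv.symm_apply_apply]; rfl))
    inv_hom_id := SchDDFam.hom_ext (funext fun i => Over.OverMorphism.ext (by
      show ((e (D'.obj i).hom).symm (tautPt D' i)).1 ≫ (ptsHom e i).left = 𝟙 _
      rw [ptsHom_apply e nat, Equiv.apply_symm_apply]; rfl)) }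

end pts

section pull

variable {κ : Type u} {V : κ → Scheme.{u}} {v : ∀ j, V j ⟶ S} {α : ι → κ} {g : ∀ i, U i ⟶ V (α i)}
  (w : ∀ i, g i ≫ v (α i) = u' i ≫ 𝟙 S)

/-- A datum on the refinement is the pullback of `D` when their points correspond compatibly. -/
theorem nonempty_pull_iso {D : SchDDFam v} {D' : SchDDFam u'}
    (e : ∀ ⦃T : Scheme.{u}⦄ ⦃i : ι⦄ (x : T ⟶ U i), Lifts (D'.obj i) x ≃ Lifts (D.obj (α i)) (x ≫ g i))
    (nat : ∀ ⦃T T' : Scheme.{u}⦄ (k : T' ⟶ T) ⦃i : ι⦄ (x : T ⟶ U i) (y : T' ⟶ U i) (_ : k ≫ x = y)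
      (p : Lifts (D'.obj i) x) (p' : Lifts (D'.obj i) y), p'.1 = k ≫ p.1 → (e y p').1 = k ≫ (e x p).1)
    (comm : ∀ ⦃T : Scheme.{u}⦄ ⦃i j : ι⦄ (x : T ⟶ U i) (y : T ⟶ U j) (h : x ≫ u' i = y ≫ u' j)
      (p : Lifts (D'.obj i) x),
      D.φ (x ≫ g i) (y ≫ g j) (pull_compat w x y h) (e x p) = e y (D'.φ x y h p)) :
    Nonempty ((pullDDFam w).obj D ≅ D') := by
  refine ⟨(isoOfPoints (D := D') (D' := (pullDDFam w).obj D)
    (fun T i x => (e x).trans (liftsPullbackEquiv (D.obj (α i)) (g i) x).symm) ?_ ?_).symm⟩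
  · intro T T' k i x y hy p p' hp
    show pullback.lift _ _ _ = k ≫ pullback.lift _ _ _
    apply pullback.hom_ext
    · rw [Category.assoc, pullback.lift_fst, pullback.lift_fst]
      exact nat k x y hy p p' hp
    · rw [Category.assoc, pullback.lift_snd, pullback.lift_snd, hy]
  · intro T i j x y h p
    show (liftsPullbackEquiv (D.obj (α j)) (g j) y).symm (D.φ (x ≫ g i) (y ≫ g j) _
      (liftsPullbackEquiv (D.obj (α i)) (g i) x
        ((liftsPullbackEquiv (D.obj (α i)) (g i) x).symm (e x p)))) =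
      (liftsPullbackEquiv (D.obj (α j)) (g j) y).symm (e y (D'.φ x y h p))
    rw [Equiv.apply_symm_apply, comm]

end pull

end Groth.DescPull

end
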