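import Groth.Agent.DescPull.Iso
import Groth.Agent.Pi1Desc.Fpqc

/-!
# Descent data glue along Zariski refinements
-/

set_option autoImplicit false
set_option backward.isDefEq.respectTransparency false
set_option backward.isDefEq.respectTransparency.types false

universe u

open CategoryTheory CategoryTheory.Limits AlgebraicGeometry Desc

noncomputable section

namespace Groth.DescPull

section eff

variable {V X S : Scheme.{u}} {h : V ⟶ X} {p : X ⟶ S}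

/-- An action descends when the base map has a section. -/
theorem eff_of_section (A : Groth.Pi1Desc.Act h p) (s : S ⟶ X) (hs : s ≫ p = 𝟙 S) : A.Eff := by
  let q₀ := A.act (𝟙 V) (h ≫ p ≫ s) (by simp [hs])
  have hq₀ : q₀ ≫ h = (h ≫ p) ≫ s := by rw [A.act_hom, Category.assoc]
  let q := pullback.lift q₀ (h ≫ p) hq₀
  have hl : ∀ {T : Scheme.{u}} (v : T ⟶ V) (e), v ≫ q₀ = A.act v (v ≫ h ≫ p ≫ s) e := fun v e =>
    (A.comp_act v _ _ _).trans (A.congr (Category.comp_id _) rfl _ _)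
  have hcompat : ∀ (T : Scheme.{u}) (v : T ⟶ V) (x : T ⟶ X) (e : v ≫ h ≫ p = x ≫ p),
      A.act v x e ≫ q = v ≫ q := by
    intro T v x e
    have h1 : A.act v x e ≫ h ≫ p = v ≫ h ≫ p := by rw [A.act_hom_assoc, e]
    apply pullback.hom_ext
    · rw [Category.assoc, Category.assoc, pullback.lift_fst, hl v (by simp [hs]),
        hl _ (by simp [hs])]
      rw [A.act_act _ _ _ _ (show v ≫ h ≫ p = (A.act v x e ≫ h ≫ p ≫ s) ≫ p by
        simp [hs, h1])]
      exact A.congr rfl (by rw [reassoc_of% h1]) _ _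
    · rw [Category.assoc, Category.assoc, pullback.lift_snd, h1]
  refine ⟨pullback h s, pullback.snd h s, q, ?_, hcompat⟩
  have cond : ∀ c : PullbackCone (pullback.snd h s) p,
      (c.fst ≫ pullback.fst h s) ≫ h ≫ p = c.snd ≫ p := fun c => by
    rw [Category.assoc, pullback.condition_assoc, hs, Category.comp_id, c.condition]
  refine IsPullback.of_isLimit' ⟨pullback.lift_snd _ _ _⟩ (PullbackCone.IsLimit.mk _
    (fun c => A.act (c.fst ≫ pullback.fst h s) c.snd (cond c)) (fun c => ?_)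
    (fun c => A.act_hom _ _ _) (fun c m h₁ h₂ => ?_))
  · rw [hcompat]
    apply pullback.hom_ext
    · rw [Category.assoc, pullback.lift_fst, hl _ (by simp [hs])]
      refine A.act_self _ _ _ ?_
      simp only [Category.assoc, pullback.condition_assoc, reassoc_of% hs]
      rw [pullback.condition]
    · rw [Category.assoc, pullback.lift_snd, Category.assoc, pullback.condition_assoc, hs,
        Category.comp_id]
  · have h₁' : c.fst ≫ pullback.fst h s = A.act m (m ≫ h ≫ p ≫ s) (by simp [hs]) := by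
      rw [← h₁, Category.assoc, pullback.lift_fst, hl m]
    refine Eq.symm ((A.congr h₁' rfl _ (h₁' ▸ cond c)).trans ?_)
    rw [A.act_act _ _ _ _ (show m ≫ h ≫ p = c.snd ≫ p by rw [← h₂, Category.assoc])]
    exact A.act_self _ _ _ h₂

/-- Descent data for schemes are effective for Zariski coverings. -/
theorem isEffective_of_zariski {ι : Type u} {S : Scheme.{u}} {U : ι → Scheme.{u}} {u' : ∀ i, U i ⟶ S}
    (hu : Presieve.ofArrows U u' ∈ Scheme.zariskiPrecoverage S) (D : SchDDFam u') : D.IsEffective := by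
  have := Groth.Pi1Desc.isCover_sigmaDesc u' (Scheme.zariskiPrecoverage_le_fpqcPrecoverage S hu)
  obtain ⟨hsurj, hopen⟩ := (Scheme.ofArrows_mem_precoverage_iff _).1 hu
  refine Groth.Pi1Desc.isEffective_of_eff D (Groth.Pi1Desc.Act.eff_of_cover fun x => ?_)
  obtain ⟨i, z, hz⟩ := hsurj ((Groth.Pi1Desc.famHom D ≫ Sigma.desc u') x)
  have : IsOpenImmersion (u' i) := hopen i
  let O := (u' i).opensRange
  refine ⟨(Groth.Pi1Desc.famHom D ≫ Sigma.desc u') ⁻¹ᵁ O, ⟨z, hz⟩, Groth.Pi1Desc.Act.stable_preimage _ O,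
    Groth.Pi1Desc.Act.effOn_preimage _ ?_⟩
  let t := (u' i).isoOpensRange.inv ≫ Sigma.ι U i
  have ht : t ≫ Sigma.desc u' = O.ι := by
    simp only [t, Category.assoc, Sigma.ι_desc]
    exact (u' i).isoOpensRange_inv_comp
  have hr : Set.range t ⊆ Set.range (Sigma.desc u' ⁻¹ᵁ O).ι := by
    rintro _ ⟨y, rfl⟩
    rw [Scheme.Opens.range_ι]
    show (Sigma.desc u') (t y) ∈ O
    rw [← Scheme.Hom.comp_apply, ht]
    exact y.2
  refine eff_of_section _ (IsOpenImmersion.lift _ t hr) ?_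
  rw [← cancel_mono O.ι, Category.assoc, morphismRestrict_ι, IsOpenImmersion.lift_fac_assoc, ht,
    Category.id_comp]

end eff

section glue

variable {ι κ : Type u} {S : Scheme.{u}} {U : ι → Scheme.{u}} {V : κ → Scheme.{u}}
  {u' : ∀ i, U i ⟶ S} {v : ∀ j, V j ⟶ S} {α : ι → κ} {g : ∀ i, U i ⟶ V (α i)}

/-- The members of the refinement lying over one member. -/
abbrev Fib (α : ι → κ) (j : κ) : Type u := {i // α i = j}

/-- The maps of the refinement over one member. -/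
abbrev fibMap (g : ∀ i, U i ⟶ V (α i)) (j : κ) (a : Fib α j) : U a.1 ⟶ V j :=
  g a.1 ≫ eqToHom (congrArg V a.2)

theorem fibMap_comp (w : ∀ i, g i ≫ v (α i) = u' i) (j : κ) (a : Fib α j) :
    fibMap g j a ≫ v j = u' a.1 := by
  obtain ⟨i, rfl⟩ := a
  simp [fibMap, w]

theorem compat_of_fib (w : ∀ i, g i ≫ v (α i) = u' i) {T : Scheme.{u}} {j j' : κ} {x : T ⟶ V j}
    {x' : T ⟶ V j'} (hx : x ≫ v j = x' ≫ v j') {a : Fib α j} {a' : Fib α j'} {y : T ⟶ U a.1}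
    {y' : T ⟶ U a'.1} (hy : x = y ≫ fibMap g j a) (hy' : x' = y' ≫ fibMap g j' a') :
    y ≫ u' a.1 = y' ≫ u' a'.1 := by
  rw [← fibMap_comp w, ← fibMap_comp w, ← Category.assoc, ← hy, hx, hy', Category.assoc]

variable (w : ∀ i, g i ≫ v (α i) = u' i) (D : SchDDFam u')

/-- The restriction of the datum to the members over one member. -/
def fibDD (j : κ) : SchDDFam (fibMap g j) where
  obj a := D.obj a.1
  φ _ a b x y h := D.φ x y (by
    rw [← fibMap_comp w, ← fibMap_comp w, ← Category.assoc, h, Category.assoc])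
  φ_natural _ _ k _ _ x y _ _ _ hx hy _ p p' hp := D.φ_natural k x y _ _ _ hx hy _ p p' hp
  φ_self _ _ x p := D.φ_self x p
  φ_comp _ _ _ _ x y z _ _ p := D.φ_comp x y z _ _ p

/-- The data of the schemes glued from the pieces over each member. -/
structure GlueData where
  /-- the glued scheme -/
  X : ∀ j, Over (V j)
  /-- the correspondence of points -/
  E : ∀ ⦃T : Scheme.{u}⦄ ⦃j : κ⦄ (a : Fib α j) (x : T ⟶ U a.1),
    Lifts (D.obj a.1) x ≃ Lifts (X j) (x ≫ fibMap g j a)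
  E_natural : ∀ ⦃T T' : Scheme.{u}⦄ (k : T' ⟶ T) ⦃j : κ⦄ (a : Fib α j) (x : T ⟶ U a.1)
    (y : T' ⟶ U a.1) (_ : k ≫ x = y) (p : Lifts (D.obj a.1) x) (p' : Lifts (D.obj a.1) y),
    p'.1 = k ≫ p.1 → (E a y p').1 = k ≫ (E a x p).1
  E_comm : ∀ ⦃T : Scheme.{u}⦄ ⦃j : κ⦄ (a b : Fib α j) (x : T ⟶ U a.1) (y : T ⟶ U b.1)
    (_ : x ≫ fibMap g j a = y ≫ fibMap g j b) (h : x ≫ u' a.1 = y ≫ u' b.1) (p : Lifts (D.obj a.1) x),
    (E b y (D.φ x y h p)).1 = (E a x p).1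

variable (hcov : ∀ j, Presieve.ofArrows (fun a : Fib α j => U a.1) (fibMap g j) ∈
  Scheme.zariskiPrecoverage (V j))

include w hcov in
theorem nonempty_glueData : Nonempty (GlueData (g := g) D) := by
  choose X hX using fun j => isEffective_of_zariski (hcov j) (fibDD w D j)
  let Φ := fun j => (hX j).some
  let F : ∀ ⦃T : Scheme.{u}⦄ ⦃j : κ⦄ (a : Fib α j) (x : T ⟶ U a.1),
      Lifts ((canonicalDDFam (fibMap g j) (X j)).obj a) x ≃ Lifts (X j) (x ≫ fibMap g j a) :=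
    fun T j a x =>
    { toFun := fun p => ⟨p.1 ≫ pullback.snd (fibMap g j a) (X j).hom, by
        rw [Category.assoc, ← pullback.condition, ← Category.assoc]
        exact congrArg (· ≫ _) p.2⟩
      invFun := fun q => ⟨pullback.lift x q.1 q.2.symm, pullback.lift_fst _ _ _⟩
      left_inv := fun p => Subtype.ext (pullback.hom_ext
        ((pullback.lift_fst _ _ _).trans p.2.symm) (pullback.lift_snd _ _ _))
      right_inv := fun q => Subtype.ext (pullback.lift_snd _ _ _) }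
  have inv_hom : ∀ j a, ((Φ j).inv.hom a).left ≫ ((Φ j).hom.hom a).left = 𝟙 _ := fun j a => by
    rw [← Over.comp_left, ← SchDDFam.comp_hom, (Φ j).inv_hom_id]; rfl
  have hom_inv : ∀ j a, ((Φ j).hom.hom a).left ≫ ((Φ j).inv.hom a).left = 𝟙 _ := fun j a => by
    rw [← Over.comp_left, ← SchDDFam.comp_hom, (Φ j).hom_inv_id]; rfl
  let G : ∀ ⦃T : Scheme.{u}⦄ ⦃j : κ⦄ (a : Fib α j) (x : T ⟶ U a.1),
      Lifts (D.obj a.1) x ≃ Lifts ((canonicalDDFam (fibMap g j) (X j)).obj a) x := fun T j a x =>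
    { toFun := fun p => (Φ j).inv.push (i := a) p
      invFun := fun q => (Φ j).hom.push (i := a) q
      left_inv := fun p => Subtype.ext (by
        show (p.1 ≫ _) ≫ _ = p.1
        rw [Category.assoc]; exact (congrArg (p.1 ≫ ·) (inv_hom j a)).trans (Category.comp_id _))
      right_inv := fun q => Subtype.ext (by
        show (q.1 ≫ _) ≫ _ = q.1
        rw [Category.assoc]; exact (congrArg (q.1 ≫ ·) (hom_inv j a)).trans (Category.comp_id _)) }
  refine ⟨⟨X, fun T j a x => (G a x).trans (F a x), ?_, ?_⟩⟩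
  · intro T T' k j a x y hy p p' hp
    show (p'.1 ≫ _) ≫ _ = k ≫ (p.1 ≫ _) ≫ _
    rw [hp]; simp only [Category.assoc]
  · intro T j a b x y he h p
    have key := (Φ j).inv.comm x y he p (G a x p) rfl
    show ((D.φ x y h p).1 ≫ _) ≫ _ = (p.1 ≫ _) ≫ _
    refine (congrArg (· ≫ pullback.snd _ _) key).symm.trans ?_
    exact pullback.lift_snd _ _ _

variable {D} (G : GlueData (g := g) D)

/-- The transition map where the points lift to the refinement. -/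
def locVal {T : Scheme.{u}} {j j' : κ} {x : T ⟶ V j} {x' : T ⟶ V j'} (hx : x ≫ v j = x' ≫ v j')
    (p : Lifts (G.X j) x) (a : Fib α j) (a' : Fib α j') (y : T ⟶ U a.1) (y' : T ⟶ U a'.1)
    (hy : x = y ≫ fibMap g j a) (hy' : x' = y' ≫ fibMap g j' a') : Lifts (G.X j') x' :=
  ⟨(G.E a' y' (D.φ y y' (compat_of_fib w hx hy hy') ((G.E a y).symm ⟨p.1, p.2.trans hy⟩))).1,
    (G.E a' y' _).2.trans hy'.symm⟩

theorem locVal_indep {T : Scheme.{u}} {j j' : κ} {x : T ⟶ V j} {x' : T ⟶ V j'}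
    (hx : x ≫ v j = x' ≫ v j') (p : Lifts (G.X j) x) (a : Fib α j) (a' : Fib α j') (y : T ⟶ U a.1)
    (y' : T ⟶ U a'.1) (hy : x = y ≫ fibMap g j a) (hy' : x' = y' ≫ fibMap g j' a') (b : Fib α j)
    (b' : Fib α j') (z : T ⟶ U b.1) (z' : T ⟶ U b'.1) (hz : x = z ≫ fibMap g j b)
    (hz' : x' = z' ≫ fibMap g j' b') :
    locVal w G hx p a a' y y' hy hy' = locVal w G hx p b b' z z' hz hz' := by
  apply Subtype.ext
  let q := (G.E a y).symm ⟨p.1, p.2.trans hy⟩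
  have hyz : y ≫ u' a.1 = z ≫ u' b.1 := compat_of_fib w rfl hy hz
  have e : (G.E b z).symm ⟨p.1, p.2.trans hz⟩ = D.φ y z hyz q := by
    rw [Equiv.symm_apply_eq]
    apply Subtype.ext
    rw [G.E_comm a b y z (hy.symm.trans hz) hyz q, Equiv.apply_symm_apply]
  have hyy : y ≫ u' a.1 = y' ≫ u' a'.1 := compat_of_fib w hx hy hy'
  have hyz' : y' ≫ u' a'.1 = z' ≫ u' b'.1 := compat_of_fib w rfl hy' hz'
  show (G.E a' y' (D.φ y y' hyy q)).1 = (G.E b' z' (D.φ z z' _ _)).1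
  rw [e, D.φ_comp, ← G.E_comm a' b' y' z' (hy'.symm.trans hz') hyz', D.φ_comp]

theorem locVal_natural {T T' : Scheme.{u}} (k : T' ⟶ T) {j j' : κ} {x : T ⟶ V j} {x' : T ⟶ V j'}
    {z : T' ⟶ V j} {z' : T' ⟶ V j'} (hz : k ≫ x = z) (hz' : k ≫ x' = z')
    (hx : x ≫ v j = x' ≫ v j') (hxz : z ≫ v j = z' ≫ v j') (p : Lifts (G.X j) x)
    (p' : Lifts (G.X j) z) (hp : p'.1 = k ≫ p.1) (a : Fib α j) (a' : Fib α j') (y : T ⟶ U a.1)
    (y' : T ⟶ U a'.1) (hy : x = y ≫ fibMap g j a) (hy' : x' = y' ≫ fibMap g j' a') :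
    (locVal w G hxz p' a a' (k ≫ y) (k ≫ y')
      (by rw [← hz, hy, Category.assoc]) (by rw [← hz', hy', Category.assoc])).1 =
      k ≫ (locVal w G hx p a a' y y' hy hy').1 := by
  let q := (G.E a y).symm ⟨p.1, p.2.trans hy⟩
  refine G.E_natural k a' y' _ rfl _ _ (D.φ_natural k y y' _ _ _ rfl rfl _ q _ ?_)
  have hk : (k ≫ q.1) ≫ (D.obj a.1).hom = k ≫ y := by rw [Category.assoc, q.2]
  refine congrArg Subtype.val (a₂ := (⟨k ≫ q.1, hk⟩ : Lifts (D.obj a.1) (k ≫ y)))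
    ((Equiv.symm_apply_eq _).2 (Subtype.ext ?_))
  rw [G.E_natural k a y (k ≫ y) rfl q ⟨_, hk⟩ rfl, Equiv.apply_symm_apply]
  exact hp

/-- The points lifting to the refinement at a given point of a member. -/
def fibSieve (g : ∀ i, U i ⟶ V (α i)) {T : Scheme.{u}} {j : κ} (x : T ⟶ V j) : Sieve T where
  arrows T' := {k | ∃ (a : Fib α j) (y : T' ⟶ U a.1), k ≫ x = y ≫ fibMap g j a}
  downward_closed := by
    rintro T' T'' k ⟨a, y, hy⟩ l
    exact ⟨a, l ≫ y, by rw [Category.assoc, hy, Category.assoc]⟩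

include hcov in
theorem fibSieve_mem {T : Scheme.{u}} {j : κ} (x : T ⟶ V j) :
    fibSieve g x ∈ Scheme.fpqcTopology T := by
  refine Scheme.fpqcTopology.superset_covering ?_ (Scheme.fpqcTopology.pullback_stable x
    (Precoverage.generate_mem_toGrothendieck (Scheme.zariskiPrecoverage_le_fpqcPrecoverage _ (hcov j))))
  rintro T' k ⟨Z, h, _, ⟨a⟩, hk⟩
  exact ⟨a, h, hk.symm⟩

include hcov in
theorem ext_of_fibSieve {T Y : Scheme.{u}} {j j' : κ} (x : T ⟶ V j) (x' : T ⟶ V j') {b c : T ⟶ Y}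
    (h : ∀ {T' : Scheme.{u}} (k : T' ⟶ T), fibSieve g x k → fibSieve g x' k → k ≫ b = k ≫ c) :
    b = c :=
  ((GrothendieckTopology.Subcanonical.isSheaf_of_isRepresentable
    (J := Scheme.fpqcTopology) (yoneda.obj Y)).isSeparated _
      (Scheme.fpqcTopology.intersection_covering (fibSieve_mem hcov x) (fibSieve_mem hcov x'))).ext
    (fun {_} k hk => h k hk.1 hk.2)

include hcov in
theorem exists_glue {T : Scheme.{u}} {j j' : κ} {x : T ⟶ V j} {x' : T ⟶ V j'}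
    (hx : x ≫ v j = x' ≫ v j') (p : Lifts (G.X j) x) :
    ∃ q : Lifts (G.X j') x', ∀ {T' : Scheme.{u}} (k : T' ⟶ T) (z : T' ⟶ V j) (z' : T' ⟶ V j')
      (_ : k ≫ x = z) (_ : k ≫ x' = z') (hxz : z ≫ v j = z' ≫ v j') (pk : Lifts (G.X j) z)
      (_ : pk.1 = k ≫ p.1) (a : Fib α j) (a' : Fib α j') (y : T' ⟶ U a.1) (y' : T' ⟶ U a'.1)
      (hy : z = y ≫ fibMap g j a) (hy' : z' = y' ≫ fibMap g j' a'),
      k ≫ q.1 = (locVal w G hxz pk a a' y y' hy hy').1 := by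
  have hkk : ∀ {T' : Scheme.{u}} (k : T' ⟶ T), (k ≫ x) ≫ v j = (k ≫ x') ≫ v j' := fun k => by
    rw [Category.assoc, hx, Category.assoc]
  let pt : ∀ {T' : Scheme.{u}} (k : T' ⟶ T), Lifts (G.X j) (k ≫ x) :=
    fun k => ⟨k ≫ p.1, by rw [Category.assoc, p.2]⟩
  let R := fibSieve g x ⊓ fibSieve g x'
  let fam : Presieve.FamilyOfElements (yoneda.obj (G.X j').left) R.arrows := fun T' k hk =>
    (locVal w G (hkk k) (pt k) hk.1.choose hk.2.choose hk.1.choose_spec.choose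
      hk.2.choose_spec.choose hk.1.choose_spec.choose_spec hk.2.choose_spec.choose_spec).1
  have hfam : ∀ {T' : Scheme.{u}} (k : T' ⟶ T) (hk : R k) (a : Fib α j) (a' : Fib α j')
      (y : T' ⟶ U a.1) (y' : T' ⟶ U a'.1) (hy : k ≫ x = y ≫ fibMap g j a)
      (hy' : k ≫ x' = y' ≫ fibMap g j' a'),
      fam k hk = (locVal w G (hkk k) (pt k) a a' y y' hy hy').1 := fun k hk a a' y y' hy hy' =>
    congrArg Subtype.val (locVal_indep w G _ _ _ _ _ _ _ _ _ _ _ _ _ _)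
  have hc : fam.Compatible := by
    intro T₁ T₂ Z l₁ l₂ k₁ k₂ h₁ h₂ hl
    obtain ⟨⟨a₁, y₁, e₁⟩, ⟨a₁', y₁', e₁'⟩⟩ := id h₁
    obtain ⟨⟨a₂, y₂, e₂⟩, ⟨a₂', y₂', e₂'⟩⟩ := id h₂
    show l₁ ≫ fam k₁ h₁ = l₂ ≫ fam k₂ h₂
    rw [hfam k₁ h₁ a₁ a₁' y₁ y₁' e₁ e₁', hfam k₂ h₂ a₂ a₂' y₂ y₂' e₂ e₂',
      ← locVal_natural w G l₁ (Category.assoc l₁ k₁ x).symm (Category.assoc l₁ k₁ x').symm (hkk k₁)
        (hkk _) (pt k₁) (pt (l₁ ≫ k₁)) (Category.assoc _ _ _),
      ← locVal_natural w G l₂ (z := (l₁ ≫ k₁) ≫ x) (z' := (l₁ ≫ k₁) ≫ x')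
        (by rw [hl, Category.assoc]) (by rw [hl, Category.assoc]) (hkk k₂)
        (hkk _) (pt k₂) (pt (l₁ ≫ k₁))
        ((congrArg (· ≫ p.1) hl).trans (Category.assoc _ _ _))]
    exact congrArg Subtype.val (locVal_indep w G _ _ _ _ _ _ _ _ _ _ _ _ _ _)
  obtain ⟨q, hq, -⟩ := (GrothendieckTopology.Subcanonical.isSheaf_of_isRepresentable
    (J := Scheme.fpqcTopology) (yoneda.obj (G.X j').left)) R
      (Scheme.fpqcTopology.intersection_covering (fibSieve_mem hcov x) (fibSieve_mem hcov x'))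
      fam hc
  have hqw : q ≫ (G.X j').hom = x' := ext_of_fibSieve hcov x x' fun k h₁ h₂ => by
    rw [← Category.assoc, show k ≫ q = fam k ⟨h₁, h₂⟩ from hq k ⟨h₁, h₂⟩]
    exact (locVal w G (hkk k) (pt k) _ _ _ _ _ _).2
  refine ⟨⟨q, hqw⟩, fun {T'} k z z' hz hz' hxz pk hpk a a' y y' hy hy' => ?_⟩
  subst hz hz'
  obtain rfl : pk = pt k := Subtype.ext hpk
  exact (hq k ⟨⟨a, y, hy⟩, ⟨a', y', hy'⟩⟩).trans (hfam k ⟨⟨a, y, hy⟩, ⟨a', y', hy'⟩⟩ a a' y y' hy hy')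

/-- The transition maps of the glued datum. -/
def glue {T : Scheme.{u}} {j j' : κ} {x : T ⟶ V j} {x' : T ⟶ V j'}
    (hx : x ≫ v j = x' ≫ v j') (p : Lifts (G.X j) x) : Lifts (G.X j') x' :=
  (exists_glue w hcov G hx p).choose

theorem glue_spec {T T' : Scheme.{u}} (k : T' ⟶ T) {j j' : κ} {x : T ⟶ V j} {x' : T ⟶ V j'}
    (hx : x ≫ v j = x' ≫ v j') (p : Lifts (G.X j) x) (z : T' ⟶ V j) (z' : T' ⟶ V j')
    (hz : k ≫ x = z) (hz' : k ≫ x' = z') (hxz : z ≫ v j = z' ≫ v j') (pk : Lifts (G.X j) z)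
    (hpk : pk.1 = k ≫ p.1) (a : Fib α j) (a' : Fib α j') (y : T' ⟶ U a.1) (y' : T' ⟶ U a'.1)
    (hy : z = y ≫ fibMap g j a) (hy' : z' = y' ≫ fibMap g j' a') :
    k ≫ (glue w hcov G hx p).1 = (locVal w G hxz pk a a' y y' hy hy').1 :=
  (exists_glue w hcov G hx p).choose_spec k z z' hz hz' hxz pk hpk a a' y y' hy hy'

theorem glue_self {T : Scheme.{u}} {j : κ} (x : T ⟶ V j) (p : Lifts (G.X j) x) :
    glue w hcov G (rfl : x ≫ v j = x ≫ v j) p = p := by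
  refine Subtype.ext (ext_of_fibSieve hcov x x fun k hk _ => ?_)
  obtain ⟨a, y, hy⟩ := hk
  rw [glue_spec w hcov G k rfl p (k ≫ x) (k ≫ x) rfl rfl rfl
    ⟨k ≫ p.1, by rw [Category.assoc, p.2]⟩ rfl a a y y hy hy]
  show (G.E a y (D.φ y y _ _)).1 = _
  rw [D.φ_self, Equiv.apply_symm_apply]

theorem glue_natural {T T' : Scheme.{u}} (l : T' ⟶ T) {j j' : κ} {x : T ⟶ V j} {x' : T ⟶ V j'}
    {z : T' ⟶ V j} {z' : T' ⟶ V j'} (hz : l ≫ x = z) (hz' : l ≫ x' = z')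
    (hx : x ≫ v j = x' ≫ v j') (hxz : z ≫ v j = z' ≫ v j') (p : Lifts (G.X j) x)
    (p' : Lifts (G.X j) z) (hp : p'.1 = l ≫ p.1) :
    (glue w hcov G hxz p').1 = l ≫ (glue w hcov G hx p).1 := by
  refine ext_of_fibSieve hcov z z' fun k h₁ h₂ => ?_
  obtain ⟨a, y, hy⟩ := h₁
  obtain ⟨a', y', hy'⟩ := h₂
  have hkx : (k ≫ z) ≫ v j = (k ≫ z') ≫ v j' := by rw [Category.assoc, hxz, Category.assoc]
  rw [glue_spec w hcov G k hxz p' (k ≫ z) (k ≫ z') rfl rfl hkx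
      ⟨k ≫ p'.1, by rw [Category.assoc, p'.2]⟩ rfl a a' y y' hy hy']
  exact (glue_spec w hcov G (k ≫ l) hx p (k ≫ z) (k ≫ z') (by rw [Category.assoc, hz])
      (by rw [Category.assoc, hz']) hkx ⟨k ≫ p'.1, by rw [Category.assoc, p'.2]⟩
      (show k ≫ p'.1 = (k ≫ l) ≫ p.1 by rw [hp, Category.assoc]) a a' y y' hy hy').symm.trans (Category.assoc _ _ _)

theorem glue_comp {T : Scheme.{u}} {j j' j'' : κ} {x : T ⟶ V j} {x' : T ⟶ V j'} {x'' : T ⟶ V j''}
    (h₁ : x ≫ v j = x' ≫ v j') (h₂ : x' ≫ v j' = x'' ≫ v j'') (p : Lifts (G.X j) x) :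
    glue w hcov G h₂ (glue w hcov G h₁ p) = glue w hcov G (h₁.trans h₂) p := by
  refine Subtype.ext (ext_of_fibSieve hcov x x'' fun {T'} k hk hk'' => ?_)
  obtain ⟨a, y, hy⟩ := hk
  obtain ⟨a'', y'', hy''⟩ := hk''
  refine ext_of_fibSieve hcov (k ≫ x') (k ≫ x') fun l hl _ => ?_
  obtain ⟨a', y', hy'⟩ := hl
  have hy₂ : l ≫ k ≫ x = (l ≫ y) ≫ fibMap g j a := by rw [hy, Category.assoc]
  have hy₂'' : l ≫ k ≫ x'' = (l ≫ y'') ≫ fibMap g j'' a'' := by rw [hy'', Category.assoc]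
  have c₁ : (l ≫ k ≫ x) ≫ v j = (l ≫ k ≫ x') ≫ v j' := by simp only [Category.assoc, h₁]
  have c₂ : (l ≫ k ≫ x') ≫ v j' = (l ≫ k ≫ x'') ≫ v j'' := by simp only [Category.assoc, h₂]
  let pl : Lifts (G.X j) (l ≫ k ≫ x) := ⟨(l ≫ k) ≫ p.1, by simp only [Category.assoc, p.2]⟩
  let ql := locVal w G c₁ pl a a' (l ≫ y) y' hy₂ hy'
  have hql : ql.1 = (l ≫ k) ≫ (glue w hcov G h₁ p).1 :=
    (glue_spec w hcov G (l ≫ k) h₁ p _ _ (Category.assoc _ _ _) (Category.assoc _ _ _) c₁ pl rfl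
      a a' (l ≫ y) y' hy₂ hy').symm
  rw [← Category.assoc, ← Category.assoc,
    glue_spec w hcov G (l ≫ k) h₂ _ _ _ (Category.assoc _ _ _) (Category.assoc _ _ _) c₂ ql hql
      a' a'' y' (l ≫ y'') hy' hy₂'',
    glue_spec w hcov G (l ≫ k) (h₁.trans h₂) p _ _ (Category.assoc _ _ _) (Category.assoc _ _ _)
      (c₁.trans c₂) pl rfl a a'' (l ≫ y) (l ≫ y'') hy₂ hy₂'']
  show (G.E a'' _ _).1 = (G.E a'' _ _).1
  refine congrArg Subtype.val (congrArg (G.E a'' (l ≫ y'')) ?_)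
  rw [show (G.E a' y').symm ⟨ql.1, ql.2.trans hy'⟩ = D.φ (l ≫ y) y' (compat_of_fib w c₁ hy₂ hy')
    ((G.E a (l ≫ y)).symm ⟨pl.1, pl.2.trans hy₂⟩) from (Equiv.symm_apply_eq _).2 (Subtype.ext rfl),
    D.φ_comp]

/-- The glued datum. -/
def glueDD : SchDDFam v where
  obj := G.X
  φ _ _ _ x x' h :=
    { toFun := glue w hcov G h
      invFun := glue w hcov G h.symm
      left_inv := fun p => (glue_comp w hcov G h h.symm p).trans (glue_self w hcov G x p)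
      right_inv := fun p => (glue_comp w hcov G h.symm h p).trans (glue_self w hcov G x' p) }
  φ_natural _ _ k _ _ _ _ h _ _ hy₀ hy₁ h' p p' hp := glue_natural w hcov G k hy₀ hy₁ h h' p p' hp
  φ_self _ _ x p := glue_self w hcov G x p
  φ_comp _ _ _ _ _ _ _ h₁ h₂ p := glue_comp w hcov G h₁ h₂ p

include hcov in
/-- Every datum on a Zariski refinement comes from a datum on the original family. -/
theorem exists_pull_iso :
    ∃ D₀ : SchDDFam v, Nonempty ((pullDDFam (α := α) (p := 𝟙 S) (p' := g)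
      (fun i => (w i).trans (Category.comp_id (u' i)).symm)).obj D₀ ≅ D) := by
  obtain ⟨G⟩ := nonempty_glueData w D hcov
  refine ⟨glueDD w hcov G, nonempty_pull_iso _ (fun T i x => (G.E (⟨i, rfl⟩ : Fib α (α i)) x).trans
    { toFun := fun q => ⟨q.1, q.2.trans (by simp [fibMap])⟩
      invFun := fun q => ⟨q.1, q.2.trans (by simp [fibMap])⟩
      left_inv := fun q => rfl
      right_inv := fun q => rfl }) ?_ ?_⟩
  · intro T T' k i x y hy p p' hp
    exact G.E_natural k (⟨i, rfl⟩ : Fib α (α i)) x y hy p p' hp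
  · intro T i j x y h p
    apply Subtype.ext
    refine (Category.id_comp _).symm.trans ((glue_spec w hcov G (𝟙 T)
      (pull_compat (p := 𝟙 S) (fun i => (w i).trans (Category.comp_id (u' i)).symm) x y h)
      ⟨(G.E ⟨i, rfl⟩ x p).1, (G.E ⟨i, rfl⟩ x p).2.trans (by simp [fibMap])⟩ (x ≫ g i) (y ≫ g j)
      (Category.id_comp _) (Category.id_comp _)
      (pull_compat (p := 𝟙 S) (fun i => (w i).trans (Category.comp_id (u' i)).symm) x y h)
      ⟨(G.E ⟨i, rfl⟩ x p).1, (G.E ⟨i, rfl⟩ x p).2.trans (by simp [fibMap])⟩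
      (Category.id_comp _).symm ⟨i, rfl⟩ ⟨j, rfl⟩ x y (by simp [fibMap]) (by simp [fibMap])).trans ?_)
    show (G.E ⟨j, rfl⟩ y (D.φ x y _ ((G.E ⟨i, rfl⟩ x).symm _))).1 = (G.E ⟨j, rfl⟩ y (D.φ x y h p)).1
    rw [show (⟨(G.E ⟨i, rfl⟩ x p).1, _⟩ : Lifts (G.X (α i)) (x ≫ fibMap g (α i) ⟨i, rfl⟩)) =
      G.E ⟨i, rfl⟩ x p from rfl, Equiv.symm_apply_apply]

end glue

end Groth.DescPull

end
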